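import Cfsg.Agent.Lib.Components.Basic
import Cfsg.Agent.Lib.Components.GenFitting
import Cfsg.Agent.Lib.Cores.Basic

/-!
# Subnormal subgroups of F*(X), layers of subnormal subgroups, E = [E,U] C_E(U)

Owner: helper34. Namespace `Cfsg.Agent.Lib.FStarTools`.
-/

set_option autoImplicit false

open Cfsg Subgroup
open Cfsg.Agent.Lib.Components

namespace Cfsg.Agent.Lib.FStarTools

variable {X : Type*} [Group X]

/-- The layer of a subnormal subgroup is generated by the components it contains. -/
theorem map_layer_subnormal {S : Subgroup X} (hS : S.IsSubnormal) :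
    (layer ↥S).map S.subtype = sSup {K : Subgroup X | IsComponent K ∧ K ≤ S} := by
  refine le_antisymm ?_ (sSup_le fun K hK => ?_)
  · rw [Subgroup.map_le_iff_le_comap]
    refine sSup_le fun K hK => Subgroup.map_le_iff_le_comap.mp (le_sSup ?_)
    exact ⟨Component.map_subtype hS hK, Subgroup.map_subtype_le K⟩
  · have := Subgroup.map_mono (f := S.subtype)
      (Layer.component_le_layer (Component.subgroupOf hK.1 hK.2))
    rwa [Subgroup.map_subgroupOf_eq_of_le hK.2] at this

theorem map_layer_le_layer {S : Subgroup X} (hS : S.IsSubnormal) :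
    (layer ↥S).map S.subtype ≤ layer X := by
  rw [map_layer_subnormal hS]
  exact sSup_le fun K hK => Layer.component_le_layer hK.1

theorem isSolvable_fitting [Finite X] : Group.IsSolvable ↥(fittingSubgroup X) := by
  have := Cores.fittingSubgroup_isNilpotent (G := X)
  infer_instance

theorem center_genFitting_le [Finite X] :
    Subgroup.centralizer (generalizedFittingSubgroup X : Set X) ≤ fittingSubgroup X := by
  have hle := GenFitting.centralizer_le (G := X)
  set C := Subgroup.centralizer (generalizedFittingSubgroup X : Set X)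
  have hc : IsMulCommutative ↥C := by
    rw [← Subgroup.le_centralizer_iff_isMulCommutative]
    exact Subgroup.centralizer_le hle
  refine Cores.le_fittingSubgroup ?_
  have : IsMulCommutative ↥C := hc
  let _ : CommGroup ↥C := { (inferInstance : Group ↥C) with mul_comm := hc.is_comm.comm }
  exact CommGroup.isNilpotent

/-- The Fitting subgroup of a subnormal subgroup. -/
theorem map_fitting_subnormal [Finite X] {S : Subgroup X} (hS : S.IsSubnormal) :
    (fittingSubgroup ↥S).map S.subtype = fittingSubgroup X ⊓ S := by
  refine le_antisymm (le_inf ?_ (Subgroup.map_subtype_le _)) ?_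
  · refine Cores.IsSubnormal.le_fittingSubgroup
      ((Subgroup.Normal.isSubnormal inferInstance).trans' hS) ?_
    exact Cores.isNilpotent_map _ Cores.fittingSubgroup_isNilpotent
  · have : ((fittingSubgroup X).subgroupOf S).Normal :=
      Subgroup.Normal.subgroupOf inferInstance S
    have hle : (fittingSubgroup X).subgroupOf S ≤ fittingSubgroup ↥S := by
      refine Cores.le_fittingSubgroup ?_
      have h1 : Group.IsNilpotent ↥(fittingSubgroup X ⊓ S : Subgroup X) :=
        Cores.isNilpotent_of_le inf_le_left Cores.fittingSubgroup_isNilpotent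
      have e : ↥((fittingSubgroup X).subgroupOf S) ≃* ↥(fittingSubgroup X ⊓ S : Subgroup X) := by
        rw [← Subgroup.inf_subgroupOf_right]
        exact Subgroup.subgroupOfEquivOfLe inf_le_right
      exact Group.nilpotent_of_mulEquiv (_h := h1) e.symm
    refine le_trans ?_ (Subgroup.map_mono (f := S.subtype) hle)
    rw [Subgroup.subgroupOf_map_subtype]

/-- A subnormal subgroup of `F*(X)` is the product of its share of `F(X)` and of the components it contains. -/
theorem subnormal_genFitting_decomp [Finite X] {S : Subgroup X} (hS : S.IsSubnormal)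
    (hle : S ≤ generalizedFittingSubgroup X) :
    S = (fittingSubgroup X ⊓ S) ⊔ sSup {K : Subgroup X | IsComponent K ∧ K ≤ S} := by
  refine le_antisymm ?_ (sup_le inf_le_right (sSup_le fun K hK => hK.2))
  set E1 := sSup {K : Subgroup X | IsComponent K ∧ K ≤ S} with hE1
  set E2 := sSup {K : Subgroup X | IsComponent K ∧ ¬ K ≤ S} with hE2
  set F := fittingSubgroup X
  have hE1S : E1 ≤ S := sSup_le fun K hK => hK.2
  have hE : layer X ≤ E1 ⊔ E2 := sSup_le fun K hK => by
    by_cases h : K ≤ S
    · exact (le_sSup (show K ∈ {K : Subgroup X | IsComponent K ∧ K ≤ S} from ⟨hK, h⟩)).trans le_sup_left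
    · exact (le_sSup (show K ∈ {K : Subgroup X | IsComponent K ∧ ¬ K ≤ S} from ⟨hK, h⟩)).trans le_sup_right
  have hSC : E2 ≤ Subgroup.centralizer (S : Set X) := sSup_le fun K hK => by
    have := (Component.le_or_commutator_eq_bot hK.1 hS).resolve_left hK.2
    rw [Subgroup.commutator_comm] at this
    exact Subgroup.commutator_eq_bot_iff_le_centralizer.mp this
  have hFC : E2 ≤ Subgroup.centralizer (F : Set X) := sSup_le fun K hK =>
    Subgroup.le_centralizer_iff.mp (Component.fittingSubgroup_le_centralizer hK.1)
  have hA : F ⊔ E1 ≤ Subgroup.centralizer (E2 : Set X) :=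
    sup_le (Subgroup.le_centralizer_iff.mp hFC)
      (hE1S.trans (Subgroup.le_centralizer_iff.mp hSC))
  have htot : generalizedFittingSubgroup X ≤ (F ⊔ E1) ⊔ E2 := by
    refine sup_le (hE.trans ?_) (le_sup_left.trans le_sup_left)
    exact sup_le (le_sup_right.trans le_sup_left) le_sup_right
  intro s hs
  have hs' := htot (hle hs)
  rw [← SetLike.mem_coe,
    Subgroup.coe_mul_of_left_le_normalizer_right _ _ (hA.trans (Subgroup.centralizer_le_normalizer _))] at hs'
  obtain ⟨a, ha, e, he, rfl⟩ := hs'
  simp only [SetLike.mem_coe] at ha he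
  have he' : e ∈ Subgroup.centralizer (E2 : Set X) := by
    have h := (Subgroup.le_centralizer_iff.mp hSC) hs
    have := Subgroup.mul_mem _ (Subgroup.inv_mem _ (hA ha)) h
    simpa [← mul_assoc] using this
  have heF : e ∈ F := by
    refine center_genFitting_le ?_
    rw [Subgroup.mem_centralizer_iff]
    have hA' : generalizedFittingSubgroup X ≤ Subgroup.centralizer ({e} : Set X) := by
      refine htot.trans (sup_le ?_ ?_)
      · intro x hx
        rw [Subgroup.mem_centralizer_singleton_iff]
        exact (Subgroup.mem_centralizer_iff.mp (hA hx) e he).symm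
      · intro x hx
        rw [Subgroup.mem_centralizer_singleton_iff]
        exact Subgroup.mem_centralizer_iff.mp he' x hx
    intro x hx
    exact Subgroup.mem_centralizer_singleton_iff.mp (hA' hx)
  have hae : a * e ∈ F ⊔ E1 := Subgroup.mul_mem _ ha (Subgroup.mem_sup_left heF)
  rw [← SetLike.mem_coe, Subgroup.normal_mul] at hae
  obtain ⟨f, hf, e1, he1, hfe⟩ := hae
  simp only [SetLike.mem_coe] at hf he1
  have hfe' : f * e1 = a * e := hfe
  show a * e ∈ _
  rw [← hfe']
  refine Subgroup.mul_mem_sup ⟨hf, ?_⟩ he1
  have hs2 : f * e1 ∈ S := hfe'.symm ▸ hs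
  have := Subgroup.mul_mem _ hs2 (Subgroup.inv_mem _ (hE1S he1))
  simpa using this

/-- A component is inside `[E(X),U]` or centralizes `U`. -/
theorem component_le_commutator_or_le_centralizer [Finite X] {K : Subgroup X} (hK : IsComponent K)
    (U : Subgroup X) :
    K ≤ ⁅layer X, U⁆ ∨ K ≤ Subgroup.centralizer (U : Set X) := by
  have hle : ⁅layer X, U⁆ ≤ layer X := Subgroup.commutator_le_left _ _
  have hsn : (⁅layer X, U⁆).IsSubnormal :=
    Subgroup.IsSubnormal.step _ _ hle (Subgroup.Normal.isSubnormal inferInstance)
      ((Subgroup.normal_subgroupOf_iff_le_normalizer hle).mpr (Subgroup.normalizer_commutator_ge_left _ _))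
  refine (Component.le_or_commutator_eq_bot hK hsn).imp_right fun h => ?_
  rw [← Subgroup.commutator_eq_bot_iff_le_centralizer]
  have h1 : ⁅⁅K, U⁆, K⁆ = ⊥ := le_bot_iff.mp
    (h ▸ Subgroup.commutator_mono (Subgroup.commutator_mono (Layer.component_le_layer hK) le_rfl) le_rfl)
  have h2 : ⁅⁅U, K⁆, K⁆ = ⊥ := by rw [Subgroup.commutator_comm U K]; exact h1
  have := three_subgroups h1 h2
  rwa [Component.commutator_self hK] at this

theorem fitting_eq_pCore [Finite X] {p : ℕ} [hp : Fact p.Prime] (hO : pPrimeCore p X = ⊥) :
    fittingSubgroup X = pCore p X := by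
  refine le_antisymm ?_ (Cores.pCore_le_fittingSubgroup p)
  rw [Cores.fittingSubgroup_eq_iSup_pCore]
  refine iSup_le fun q => ?_
  by_cases hq : (q : ℕ) = p
  · rw [hq]
  · refine le_trans (Cores.le_pPrimeCore ?_) (hO.le.trans bot_le)
    have : Fact (q : ℕ).Prime := ⟨q.2⟩
    obtain ⟨k, hk⟩ := IsPGroup.iff_card.mp (Cores.pCore_isPGroup (G := X) (q : ℕ))
    rw [hk]
    exact ((Nat.coprime_primes q.2 hp.out).mpr hq).pow_left k

theorem centralizer_fitting_le_iff [Finite X] :
    Subgroup.centralizer (fittingSubgroup X : Set X) ≤ fittingSubgroup X ↔ layer X = ⊥ := by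
  constructor
  · intro h
    by_contra hne
    obtain ⟨K, hK⟩ := Layer.layer_ne_bot_iff.mp hne
    have := isSolvable_fitting (X := X)
    exact Component.not_le_of_isSolvable hK
      ((Subgroup.le_centralizer_iff.mp (Component.fittingSubgroup_le_centralizer hK)).trans h)
  · intro h
    have := GenFitting.centralizer_le (G := X)
    rwa [generalizedFittingSubgroup, h, bot_sup_eq] at this

end Cfsg.Agent.Lib.FStarTools
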